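/-
Coset enumeration data, found by a computer search; checked by `decide +kernel`.
-/
import Cfsg.Agent.Lib.Spor.TC.Check

namespace CfsgLib.Spor.Held.Perfect

open CfsgLib.Spor.TC

def edgeTbl : Tbl :=
  .bin (.tip 0x4000017000000000a70000a000044000000000140000b0000070000100005700000000022000080000120000e00000700009000087000020000370000e000031000020000e20000d000070000010000d60000c000060000010000c50000b000050000010000b40000a000040000010000a30000900003000001000092000080000200000100008100000000076000000000650000000005400000000043000000000320000000002100000000010) (.tip 0x6000000000050000000000400000000003000000000000000100000700001000006000070000170000d00000700001000005000060000170000c000007000070000d3000060000c30000000000200000000001000020000070000200008300001000003)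

def nodeTbl : Tbl :=
  .bin (.tip 0x22000016000015000014000013000012000011000006000005000004000003000002000001000000000000) (.none)

def rowTbl : Tbl :=
  .bin (.tip 0x0) (.none)

def rels : List (List ℕ) := [[0, 1, 0, 1, 0, 1, 0, 1], [0, 2, 0, 2], [0, 3, 0, 3], [0, 4, 0, 4], [0, 5, 0, 5], [0, 6, 0, 6], [1, 2, 1, 2, 1, 2], [1, 3, 1, 3], [1, 4, 1, 4], [1, 5, 1, 5], [1, 6, 1, 6], [2, 3, 2, 3, 2, 3, 2, 3, 2, 3, 2, 3, 2, 3, 2, 3, 2, 3, 2, 3], [2, 4, 2, 4], [2, 5, 2, 5], [2, 6, 2, 6], [3, 4, 3, 4, 3, 4], [3, 5, 3, 5, 3, 5], [3, 6, 3, 6, 3, 6], [4, 5, 4, 5], [4, 6, 4, 6], [5, 6, 5, 6, 5, 6, 5, 6], [4, 6, 5, 6, 5], [4, 2, 1, 0, 2, 1, 0, 2, 1, 0], [0, 3, 2, 3, 2, 3, 2, 3, 2, 3, 2], [2, 3, 5, 6, 2, 3, 5, 6, 2, 3, 5, 6, 2, 3, 5, 6], [0, 0, 0, 0], [0, 1, 0, 1], [0, 2, 0, 2], [0, 3, 0, 3], [0, 4, 0, 4], [0, 5, 0, 5], [0, 6, 0, 6], [1, 0, 1, 0], [1, 1, 1, 1], [1, 2, 1, 2], [1, 3, 1,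 3], [1, 4, 1, 4], [1, 5, 1, 5], [1, 6, 1, 6], [2, 0, 2, 0], [2, 1, 2, 1], [2, 2, 2, 2], [2, 3, 2, 3], [2, 4, 2, 4], [2, 5, 2, 5], [2, 6, 2, 6], [3, 0, 3, 0], [3, 1, 3, 1], [3, 2, 3, 2], [3, 3, 3, 3], [3, 4, 3, 4], [3, 5, 3, 5], [3, 6, 3, 6], [4, 0, 4, 0], [4, 1, 4, 1], [4, 2, 4, 2], [4, 3, 4, 3], [4, 4, 4, 4], [4, 5, 4, 5], [4, 6, 4, 6], [5, 0, 5, 0], [5, 1, 5, 1], [5, 2, 5, 2], [5, 3, 5, 3], [5, 4, 5, 4], [5, 5, 5, 5], [5, 6, 5, 6], [6, 0, 6, 0], [6, 1, 6, 1], [6, 2, 6, 2], [6, 3, 6, 3], [6, 4, 6, 4], [6, 5, 6, 5], [6, 6, 6, 6]]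

def subs : List (List ℕ) := []

noncomputable def cert : Cert :=
  ⟨7, rels, subs, edgeTbl.get 44, nodeTbl.get 24, rowTbl.get 20⟩

end CfsgLib.Spor.Held.Perfect
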