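/-
Coset enumeration certificate, found by a computer search.
-/
import Cfsg.Agent.Lib.Spor.Held.Perfect.Data

namespace CfsgLib.Spor.Held.Perfect

open CfsgLib.Spor.TC

def scodes0_0 : List ℕ :=
  [0x1,
   0x1,
   0x1,
   0x1,
   0x1,
   0x1,
   0x1,
   0x1,
   0x3000020001000003000010001b00002,
   0x1,
   0x5000020001400003000010000200002,
   0x1,
   0x7000020001800003000010000300002,
   0x1,
   0x9000020001c00003000010000400002,
   0x1,
   0xb000020002000003000010000500002,
   0x1,
   0xd000020002400003000010000600002,
   0x1,
   0x5000040002800003000010002300002,
   0x29000270000300006000290002700007000040000700002,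
   0x120002c0001500004,
   0x40002c0002900004,
   0x140002e00004,
   0x280003000004,
   0x9000340000300002000310000f000010003400003000020000b000060001700002,
   0x2000360001d00004,
   0x1c0003800004,
   0x70003a0001800004000050003300002,
   0x1700039000080003b0001700039000070000b0001000002,
   0x10003e0001a00004,
   0x80004000004,
   0xf000420000400004000090000800002,
   0x2000420003400044000320004200034000440003200042000340000c000010001800002,
   0x40004600004,
   0x340004600004,
   0x1f000420000c00003000020003400002,
   0x23000420000e00003000020003500002,
   0x41000200004b0000b000410002000007000010001100002,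
   0x10004f0002200004,
   0xc0005200004,
   0x41000240004d0000d000410002400007000010001200002,
   0x1000550002600004,
   0xe0005800004,
   0x3a0005a000530005a0005300006000010001600002,
   0x20005c00004,
   0x410005c00004,
   0x3a0005c00004,
   0x530005c00004,
   0x590005c00004]

def scodes0_ : List ℕ :=
  scodes0_0

set_option maxRecDepth 100000 in
theorem steps0 : cert.StepsOK 0 51 :=
  Cert.StepsOK.of_check _ (codes := scodes0_) (by decide +kernel)

def rcodes0_0 : List ℕ :=
  [0x6500001000063000010000610000100005f00001000049000010000470000100005d00001]

def rcodes0_ : List ℕ :=
  rcodes0_0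

set_option maxRecDepth 100000 in
theorem rows0 : cert.RowsOK 51 1 0 1 :=
  Cert.RowsOK.of_check _ (codes := rcodes0_) (by decide +kernel)

end CfsgLib.Spor.Held.Perfect
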